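import Mathlib.RingTheory.Flat.Basic
import Mathlib.RingTheory.Flat.Tensor
import Mathlib.RingTheory.IntegralClosure.IntegrallyClosed
import Mathlib.Algebra.Category.Ring.Epi
import Mathlib.Algebra.Algebra.Epi
import Mathlib.RingTheory.Adjoin.Tower

set_option autoImplicit false

open CategoryTheory TensorProduct

namespace Groth.Agent.EpiIntClosed

universe u

variable {A : Type u} [CommRing A]

lemma flat_of_injective (hA : ∀ I : Ideal A, Module.Flat A I) {N M : Type u} [AddCommGroup N]
    [Module A N] [AddCommGroup M] [Module A M] [Module.Flat A M] (f : N →ₗ[A] M)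
    (hf : Function.Injective f) : Module.Flat A N := by
  rw [Module.Flat.iff_lTensor_injective']
  intro I
  haveI := hA I
  have h : LinearMap.rTensor A f ∘ₗ LinearMap.lTensor N I.subtype =
      LinearMap.lTensor M I.subtype ∘ₗ LinearMap.rTensor I f := by
    rw [LinearMap.rTensor_comp_lTensor, LinearMap.lTensor_comp_rTensor]
  have h2 : Function.Injective (LinearMap.rTensor A f ∘ₗ LinearMap.lTensor N I.subtype) := by
    rw [h, LinearMap.coe_comp]
    exact (Module.Flat.lTensor_preserves_injective_linearMap _ (Submodule.injective_subtype I)).comp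
      (Module.Flat.rTensor_preserves_injective_linearMap f hf)
  rw [LinearMap.coe_comp] at h2
  exact Function.Injective.of_comp h2

theorem main {B : Type u} [CommRing B] [Algebra A B]
    (hA : ∀ I : Ideal A, Module.Flat A I) [Module.Flat A B]
    (hinj : Function.Injective (algebraMap A B))
    (hepi : Epi (CommRingCat.ofHom (algebraMap A B))) : IsIntegrallyClosedIn A B := by
  haveI : Algebra.IsEpi A B := CommRingCat.epi_iff_epi.1 hepi
  rw [isIntegrallyClosedIn_iff]
  refine ⟨hinj, fun {x} hx => ?_⟩
  let A' : Subalgebra A B := Algebra.adjoin A {x}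
  haveI : Module.Finite A A' := Module.Finite.iff_fg.2 hx.fg_adjoin_singleton
  haveI : Module.Flat A A' := flat_of_injective hA A'.val.toLinearMap Subtype.val_injective
  haveI : Algebra.IsEpi A A' := by
    refine ⟨?_⟩
    have hsq : A'.val.toLinearMap ∘ₗ TensorProduct.lift (LinearMap.mul A A') =
        TensorProduct.lift (LinearMap.mul A B) ∘ₗ
          TensorProduct.map A'.val.toLinearMap A'.val.toLinearMap := by
      ext a b; rfl
    have hm : Function.Injective (TensorProduct.map A'.val.toLinearMap A'.val.toLinearMap) := by
      rw [← LinearMap.lTensor_comp_rTensor, LinearMap.coe_comp]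
      exact (Module.Flat.lTensor_preserves_injective_linearMap _ Subtype.val_injective).comp
        (Module.Flat.rTensor_preserves_injective_linearMap _ Subtype.val_injective)
    have h2 : Function.Injective
        (A'.val.toLinearMap ∘ₗ TensorProduct.lift (LinearMap.mul A A')) := by
      rw [hsq, LinearMap.coe_comp]
      exact (Algebra.IsEpi.injective_lift_mul (R := A) (A := B)).comp hm
    rw [LinearMap.coe_comp] at h2
    exact Function.Injective.of_comp h2
  obtain ⟨y, hy⟩ := (Algebra.isEpi_iff_surjective_algebraMap_of_finite.1 (inferInstance : Algebra.IsEpi A A'))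
    ⟨x, Algebra.self_mem_adjoin_singleton A x⟩
  exact ⟨y, congrArg Subtype.val hy⟩

end Groth.Agent.EpiIntClosed
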